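import Groth.Agent.PushLinLib.HH
import Groth.Agent.FinPicLib.Topo
import Groth.Agent.RRVanLib.GG
import Groth.Agent.CurvLib.RRBasic
import Groth.Agent.CurvLib.Finite0
import Groth.Agent.DevissLib.Induction
import Groth.Agent.FibDimLib.ClosureDim
import Groth.Agent.PerfectionLib.Scheme
import Groth.Prelude.Def_ClSub2

/-!
# Cohomology of finite morphisms of one-dimensional schemes which are closed immersions over a dense open
-/

set_option autoImplicit false
universe u

open CategoryTheory CategoryTheory.Limits AlgebraicGeometry TopologicalSpace Opposite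
open DevissLib

noncomputable section

namespace GenusPushLib

variable {X Y : Scheme.{u}}

/-- Finite dimensional closed sets avoiding a dense open are discrete. -/
theorem dim_le_zero_of_disjoint [NoetherianSpace X] (hdim : topologicalKrullDim X ≤ 1) {U : Set X}
    (hU : IsOpen U) (hd : Dense U) {T : Set X} (hT : IsClosed T) (hTU : ∀ x ∈ T, x ∉ U) :
    topologicalKrullDim T ≤ 0 := by
  have hg : ∀ y ∈ T, ¬ FinPicLib.IsGen y := fun y hy h => hTU y hy (FinPicLib.mem_of_dense h hU hd)
  haveI : Finite T := (FinPicLib.finite_of_closed hdim hT hg).to_subtype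
  haveI : T1Space T := ⟨fun y => by
    have h : closure ({(y : X)} : Set X) = {(y : X)} := by
      refine subset_antisymm (fun z hz => ?_) subset_closure
      exact (FinPicLib.eq_of_specializes_of_not_isGen hdim (hg y y.2) (specializes_iff_mem_closure.mpr hz)).symm
    have he : ({y} : Set T) = Subtype.val ⁻¹' {(y : X)} := Set.ext fun z => by simp [Subtype.ext_iff]
    rw [he]
    exact (isClosed_of_closure_subset h.le).preimage continuous_subtype_val⟩
  haveI : DiscreteTopology T := inferInstance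
  rcases isEmpty_or_nonempty T with h | h
  · haveI : Subsingleton T := inferInstance
    haveI : IsEmpty (IrreducibleCloseds T) := ⟨fun Z => h.elim Z.isIrreducible.nonempty.some⟩
    rw [topologicalKrullDim, Order.krullDim_eq_bot]
    exact bot_le
  · exact topologicalKrullDim_zero_of_discreteTopology T

theorem app_surjective_of_restrict (f : X ⟶ Y) (U : Y.Opens) [IsClosedImmersion (f ∣_ U)] (V : Y.Opens)
    (hV : IsAffineOpen V) (hVU : V ≤ U) : Function.Surjective (f.app V) := by
  have hV' : IsAffineOpen (U.ι ⁻¹ᵁ V) := hV.preimage_of_isOpenImmersion U.ι (by rwa [Scheme.Opens.opensRange_ι])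
  have h := (f ∣_ U).app_surjective (U.ι ⁻¹ᵁ V) hV'
  rw [morphismRestrict_app] at h
  have e : U.ι ''ᵁ U.ι ⁻¹ᵁ V = V := by
    rw [Scheme.Hom.image_preimage_eq_opensRange_inf, Scheme.Opens.opensRange_ι, inf_eq_right.mpr hVU]
  have h' : Function.Surjective (f.app (U.ι ''ᵁ U.ι ⁻¹ᵁ V)) := by
    change Function.Surjective (⇑(X.presheaf.map (eqToHom _).op) ∘ ⇑(f.app (U.ι ''ᵁ U.ι ⁻¹ᵁ V))) at h
    exact (Function.Surjective.of_comp_iff' (ConcreteCategory.bijective_of_isIso _) _).mp h
  rwa [e] at h'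

theorem isIso_app_of_restrict (f : X ⟶ Y) (U : Y.Opens) [IsIso (f ∣_ U)] (V : Y.Opens) (hVU : V ≤ U) :
    IsIso (f.app V) := by
  refine (ConcreteCategory.isIso_iff_bijective _).mpr ?_
  have h := ConcreteCategory.bijective_of_isIso ((f ∣_ U).app (U.ι ⁻¹ᵁ V))
  rw [morphismRestrict_app] at h
  change Function.Bijective (⇑(X.presheaf.map (eqToHom _).op) ∘ ⇑(f.app (U.ι ''ᵁ U.ι ⁻¹ᵁ V))) at h
  have e : U.ι ''ᵁ U.ι ⁻¹ᵁ V = V := by
    rw [Scheme.Hom.image_preimage_eq_opensRange_inf, Scheme.Opens.opensRange_ι, inf_eq_right.mpr hVU]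
  have h' : Function.Bijective (f.app (U.ι ''ᵁ U.ι ⁻¹ᵁ V)) :=
    (Function.Bijective.of_comp_iff' (ConcreteCategory.bijective_of_isIso _) _).mp h
  rwa [e] at h'

/-- The cokernel of `O → f_* O` is supported away from the locus where `f` is a closed immersion. -/
theorem notMem_support_cokernel_unit (f : X ⟶ Y) (U : Y.Opens) [IsClosedImmersion (f ∣_ U)] {y : Y} (hy : y ∈ U) :
    y ∉ CohB1.support (cokernel (ClSub.unitToPush f)) := by
  refine DevissLib.notMem_support_cokernel _ y fun a => ?_
  obtain ⟨W, hyW, t, rfl⟩ := exists_gm_eq _ y a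
  obtain ⟨V, hV, hyV, hle⟩ := Opens.isBasis_iff_nbhd.mp Y.isBasis_affineOpens (show y ∈ W ⊓ U from ⟨hyW, hy⟩)
  obtain ⟨s, hs⟩ := app_surjective_of_restrict f U V hV (hle.trans inf_le_right)
    (((Scheme.Modules.pushforward f).obj (Coh.structureModule X)).presheaf.map (homOfLE (hle.trans inf_le_left)).op t)
  refine ⟨gm _ y hyV (show Γ(Coh.structureModule Y, V) from s), ?_⟩
  rw [gm_app]
  exact (congrArg _ hs).trans (gm_map _ (hle.trans inf_le_left) y hyV t)

/-- The kernel of `O → f_* O` is supported away from the locus where `f` is an isomorphism. -/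
theorem notMem_support_kernel_unit (f : X ⟶ Y) (U : Y.Opens) [IsIso (f ∣_ U)] {y : Y} (hy : y ∈ U) :
    y ∉ CohB1.support (kernel (ClSub.unitToPush f)) := by
  refine DevissLib.notMem_support_kernel _ y ?_
  refine (injective_iff_map_eq_zero _).mpr fun a ha => ?_
  obtain ⟨W, hyW, t, rfl⟩ := exists_gm_eq _ y a
  rw [gm_app] at ha
  let P := (Scheme.Modules.pushforward f).obj (Coh.structureModule X)
  obtain ⟨W', hyW', i₁, i₂, he⟩ := TopCat.Presheaf.germ_eq _ y hyW hyW
    ((ClSub.unitToPush f).app W t) (0 : Γ(P, W)) (ha.trans (map_zero _).symm)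
  have hb : Function.Bijective ((ClSub.unitToPush f).app (W' ⊓ U)) := by
    haveI := isIso_app_of_restrict f U (W' ⊓ U) inf_le_right
    exact ConcreteCategory.bijective_of_isIso (f.app (W' ⊓ U))
  rw [← gm_map _ (show W' ⊓ U ≤ W from inf_le_left.trans (leOfHom i₁)) y ⟨hyW', hy⟩ t]
  refine (congrArg _ (?_ : _ = (0 : Γ(Coh.structureModule Y, W' ⊓ U)))).trans (map_zero _)
  refine hb.1 (Eq.trans ?_ (map_zero _).symm)
  rw [QCohLib.app_map]
  have h1 := congrArg (P.presheaf.map (homOfLE (inf_le_left : W' ⊓ U ≤ W')).op) he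
  rw [map_zero, map_zero] at h1
  exact (QCohLib.map_map' _ _ i₁ _).symm.trans h1

/-- On a reduced scheme, functions vanishing on a dense open vanish. -/
theorem mono_unit [IsReduced Y] (f : X ⟶ Y) (U : Y.Opens) (hd : Dense (U : Set Y)) [IsIso (f ∣_ U)] :
    Mono (ClSub.unitToPush f) := by
  have key : ∀ (W : Y.Opens) (s : Γ(Coh.structureModule Y, W)), (ClSub.unitToPush f).app W s = 0 → s = 0 := by
    intro W s hs
    change f.app W (show Γ(Y, W) from s) = 0 at hs
    let r : Γ(Y, W) := s
    show r = 0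
    refine AlgebraicGeometry.eq_zero_of_basicOpen_eq_bot r ?_
    by_contra hne
    obtain ⟨y, hy, hyU⟩ := hd.inter_open_nonempty _ (Y.basicOpen r).isOpen (Set.nonempty_iff_ne_empty.mpr fun h => hne (Opens.ext h))
    have hyW : y ∈ W := Y.basicOpen_le r hy
    haveI := isIso_app_of_restrict f U (W ⊓ U) inf_le_right
    have h0 : Y.presheaf.map (homOfLE (inf_le_left : W ⊓ U ≤ W)).op r = 0 := by
      refine (ConcreteCategory.bijective_of_isIso (f.app (W ⊓ U))).1 (Eq.trans ?_ (map_zero _).symm)
      refine (ConcreteCategory.congr_hom (f.naturality (homOfLE (inf_le_left : W ⊓ U ≤ W)).op) r).trans ?_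
      exact (congrArg (fun t => (X.presheaf.map _).hom t) hs).trans (map_zero _)
    have : y ∈ Y.basicOpen (Y.presheaf.map (homOfLE (inf_le_left : W ⊓ U ≤ W)).op r) := by
      rw [Scheme.basicOpen_res]; exact ⟨⟨hyW, hyU⟩, hy⟩
    rw [h0, Scheme.basicOpen_zero] at this
    exact this
  refine Preadditive.mono_of_cancel_zero _ fun g hg => ?_
  refine Scheme.Modules.hom_ext _ _ fun W => ?_
  ext s
  exact key W (g.app W s) (congrArg (fun φ => φ.app W s) hg)

variable {k : Type u} [Field k] [X.Over (Spec (CommRingCat.of k))] [Y.Over (Spec (CommRingCat.of k))]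
  [IsProper (Y ↘ Spec (CommRingCat.of k))]

omit [X.Over (Spec (CommRingCat.of k))] in
/-- Additivity in dimension at most one. -/
theorem euler_add_le_one (hdim : topologicalKrullDim Y ≤ 1) {S : ShortComplex Y.Modules} (hS : S.ShortExact)
    (a : AtlasCoh.FiniteCoh (Y ↘ Spec (CommRingCat.of k)) S.X₁)
    (b : AtlasCoh.FiniteCoh (Y ↘ Spec (CommRingCat.of k)) S.X₂)
    (c : AtlasCoh.FiniteCoh (Y ↘ Spec (CommRingCat.of k)) S.X₃) :
    Curv2.euler k Y S.X₂ = Curv2.euler k Y S.X₁ + Curv2.euler k Y S.X₃ := by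
  haveI := CurvLib.isNoetherian k (X := Y)
  haveI : ∀ i, Module.Finite k (Coh.HH Y S.X₁ i) := fun i => a i
  haveI : ∀ i, Module.Finite k (Coh.HH Y S.X₂ i) := fun i => b i
  haveI : ∀ i, Module.Finite k (Coh.HH Y S.X₃ i) := fun i => c i
  exact CurvLib.euler_add (k := k) hS (d := 2)
    (fun m hm => CurvLib.subsingleton_HH_of_dim_le _ (d := 1) (by exact_mod_cast hdim) m (by omega))
    (fun m hm => CurvLib.subsingleton_HH_of_dim_le _ (d := 1) (by exact_mod_cast hdim) m (by omega))
    (fun m hm => CurvLib.subsingleton_HH_of_dim_le _ (d := 1) (by exact_mod_cast hdim) m (by omega))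

/-- The data of `O → f_* O`. -/
theorem unit_data (hdim : topologicalKrullDim Y ≤ 1) (f : X ⟶ Y) [IsFinite f] (U : Y.Opens)
    (hd : Dense (U : Set Y)) [IsClosedImmersion (f ∣_ U)] :
    Coh.IsCoh ((Coh.push f).obj (Coh.structureModule X)) ∧ Coh.IsCoh (cokernel (ClSub.unitToPush f)) ∧
      topologicalKrullDim (CohB1.support (cokernel (ClSub.unitToPush f))) ≤ 0 ∧
      Function.Surjective (CurvLib.hMap (k := k) (ClSub.unitToPush f) 1) := by
  haveI := CurvLib.isNoetherian k (X := Y)
  haveI : IsLocallyNoetherian X := LocallyOfFiniteType.isLocallyNoetherian f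
  let P := (Coh.push f).obj (Coh.structureModule X)
  have hP : Coh.IsCoh P := QCohLib.isCoh_push_finite f _ (DevissLib.isCoh_structureModule X)
  let φ : Coh.structureModule Y ⟶ P := ClSub.unitToPush f
  have hO := DevissLib.isCoh_structureModule Y
  have hC : Coh.IsCoh (cokernel φ) := QCohLib.isCoh_cokernel φ hO.1 hP
  have hd0 : topologicalKrullDim (CohB1.support (cokernel φ)) ≤ 0 :=
    dim_le_zero_of_disjoint hdim U.isOpen hd (QCohLib.isClosed_support _ hC.2)
      fun y hy hyU => notMem_support_cokernel_unit f U hyU hy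
  refine ⟨hP, hC, hd0, ?_⟩
  have s1 : Function.Surjective (CurvLib.hMap (k := k) (kerImSeq φ).g 1) := fun y => by
    haveI : Subsingleton (Coh.HH Y (kerImSeq φ).X₁ (1 + 1)) := CurvLib.subsingleton_HH_of_dim_le _ (d := 1) (by exact_mod_cast hdim) _ (by norm_num)
    rw [← LinearMap.mem_range, CurvLib.exact₃ (kerImSeq_shortExact φ) 1, LinearMap.mem_ker]
    exact Subsingleton.elim _ _
  have s2 : Function.Surjective (CurvLib.hMap (k := k) (imCokSeq φ).f 1) := fun y => by
    haveI : Subsingleton (Coh.HH Y (imCokSeq φ).X₃ 1) :=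
      CurvLib.subsingleton_HH_of_support_dim (cokernel φ) hC.2 (d := 0) (by exact_mod_cast hd0) 1 Nat.one_pos
    rw [← LinearMap.mem_range, CurvLib.exact₂ (imCokSeq_shortExact φ) 1, LinearMap.mem_ker]
    exact Subsingleton.elim _ _
  intro y
  obtain ⟨z, rfl⟩ := s2 y
  obtain ⟨w, rfl⟩ := s1 z
  refine ⟨w, ?_⟩
  change CurvLib.hMap (k := k) φ 1 w = _
  conv_lhs => rw [← Abelian.image.fac φ, CurvLib.hMap_comp]

/-- The genus does not increase. -/
theorem genus_le (hdim : topologicalKrullDim Y ≤ 1) (f : X ⟶ Y) [IsFinite f]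
    (hf : f ≫ (Y ↘ Spec (CommRingCat.of k)) = X ↘ Spec (CommRingCat.of k)) (U : Y.Opens)
    (hd : Dense (U : Set Y)) [IsClosedImmersion (f ∣_ U)] : Curv2.genus k X ≤ Curv2.genus k Y := by
  haveI : Coh.IsQCoh (Coh.structureModule X) := QCohLib.isQCoh_unit
  haveI := CurvLib.isNoetherian k (X := Y)
  haveI := CurvLib.finite_HH (k := k) (DevissLib.isCoh_structureModule Y) 1
  unfold Curv2.genus
  rw [(PushLinLib.euler_push k f hf (Coh.structureModule X)).1 1]
  obtain ⟨-, -, -, hs⟩ := unit_data (k := k) hdim f U hd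
  exact LinearMap.finrank_le_finrank_of_surjective hs

omit [X.Over (Spec (CommRingCat.of k))] in
/-- Isomorphisms of direct images give isomorphisms. -/
theorem isIso_of_isIso_unit (f : X ⟶ Y) [IsFinite f] [IsIso (ClSub.unitToPush f)] : IsIso f := by
  rw [← MorphismProperty.isomorphisms.iff,
    IsZariskiLocalAtTarget.iff_of_iSup_eq_top (P := .isomorphisms Scheme) (fun W : Y.affineOpens => (W : Y.Opens))
      (iSup_affineOpens_eq_top Y)]
  intro W
  rw [MorphismProperty.isomorphisms.iff]
  haveI : IsAffine (W : Y.Opens).toScheme := W.2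
  haveI : IsAffine (f ⁻¹ᵁ (W : Y.Opens)).toScheme := W.2.preimage f
  haveI : IsIso (f.app W) := (ConcreteCategory.isIso_iff_bijective _).mpr (by
    have h := (Scheme.Modules.Hom.isIso_iff_isIso_app (φ := ClSub.unitToPush f)).mp inferInstance W
    exact (show Function.Bijective (f.app W) from (ConcreteCategory.isIso_iff_bijective ((ClSub.unitToPush f).app W)).mp h))
  haveI : IsIso (f ∣_ (W : Y.Opens)).appTop := by
    refine (ConcreteCategory.isIso_iff_bijective _).mpr ?_
    rw [Scheme.Hom.appTop, morphismRestrict_app]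
    change Function.Bijective (⇑(X.presheaf.map (eqToHom _).op) ∘ ⇑(f.app ((W : Y.Opens).ι ''ᵁ ⊤)))
    refine (ConcreteCategory.bijective_of_isIso _).comp ?_
    rw [Scheme.Opens.ι_image_top]
    exact ConcreteCategory.bijective_of_isIso _
  exact Groth.Agent.PerfectionLib.isIso_of_appTop _

/-- Equality of the invariants gives an isomorphism. -/
theorem isIso_of_eq [IsReduced Y] (hdim : topologicalKrullDim Y ≤ 1) (f : X ⟶ Y) [IsFinite f]
    (hf : f ≫ (Y ↘ Spec (CommRingCat.of k)) = X ↘ Spec (CommRingCat.of k)) (U : Y.Opens)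
    (hd : Dense (U : Set Y)) [IsIso (f ∣_ U)] (h0 : Function.Surjective (f.app ⊤).hom)
    (h1 : Curv2.genus k X = Curv2.genus k Y) : IsIso f := by
  haveI : Coh.IsQCoh (Coh.structureModule X) := QCohLib.isQCoh_unit
  haveI := CurvLib.isNoetherian k (X := Y)
  obtain ⟨hP, hC, hC0, -⟩ := unit_data (k := k) hdim f U hd
  let P := (Coh.push f).obj (Coh.structureModule X)
  let φ : Coh.structureModule Y ⟶ P := ClSub.unitToPush f
  haveI : Mono φ := mono_unit f U hd
  have hO := DevissLib.isCoh_structureModule Y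
  let S : ShortComplex Y.Modules := ShortComplex.mk φ (cokernel.π φ) (cokernel.condition φ)
  have hS : S.ShortExact :=
    { exact := ShortComplex.exact_of_g_is_cokernel _ (cokernelIsCokernel φ)
      mono_f := inferInstanceAs (Mono φ)
      epi_g := inferInstanceAs (Epi (cokernel.π φ)) }
  haveI := CurvLib.finite_HH (k := k) hO 0
  haveI := CurvLib.finite_HH (k := k) hP 0
  have hsur : Function.Surjective (CurvLib.hMap (k := k) φ 0) := fun y => by
    obtain ⟨s, hs⟩ := h0 (show Γ(X, f ⁻¹ᵁ ⊤) from DegPullLib.e0 P y)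
    refine ⟨(DegPullLib.e0 (Coh.structureModule Y)).symm s, (DegPullLib.e0 P).injective ?_⟩
    refine (RRVanLib.e0_map φ _).trans ?_
    refine (congrArg (fun t => φ.app ⊤ t) (AddEquiv.apply_symm_apply _ _)).trans ?_
    exact hs
  have hinj : Function.Injective (CurvLib.hMap (k := k) φ 0) := CurvLib.injective₀ (k := k) (S := S) hS
  have e0 : Module.finrank k (Coh.HH Y (Coh.structureModule Y) 0) = Module.finrank k (Coh.HH Y P 0) :=
    le_antisymm (LinearMap.finrank_le_finrank_of_injective (f := CurvLib.hMap (k := k) φ 0) hinj)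
      (LinearMap.finrank_le_finrank_of_surjective hsur)
  have e1 : Module.finrank k (Coh.HH Y (Coh.structureModule Y) 1) = Module.finrank k (Coh.HH Y P 1) :=
    h1.symm.trans ((PushLinLib.euler_push k f hf (Coh.structureModule X)).1 1)
  have hχ : Curv2.euler k Y P = Curv2.euler k Y (Coh.structureModule Y) + Curv2.euler k Y (cokernel φ) :=
    CurvLib.euler_add_of_isCoh (k := k) (S := S) hS hO hP hC
  rw [CurvLib.euler_eq_sub fun n hn => CurvLib.subsingleton_HH_of_dim_le P (d := 1) (by exact_mod_cast hdim) n (by omega),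
    CurvLib.euler_eq_sub fun n hn => CurvLib.subsingleton_HH_of_dim_le _ (d := 1) (by exact_mod_cast hdim) n (by omega),
    CurvLib.euler_eq_h0 (k := k) hC hC0, e0, e1] at hχ
  have hz : IsZero (cokernel φ) := CurvLib.isZero_of_h0 (k := k) hC hC0 (Nat.cast_eq_zero.mp (by linarith : ((Module.finrank k (Coh.HH Y (cokernel (ClSub.unitToPush f)) 0) : ℕ) : ℤ) = 0))
  haveI : Epi φ := Preadditive.epi_of_isZero_cokernel φ hz
  haveI : IsIso (ClSub.unitToPush f) := isIso_of_mono_of_epi φ
  exact isIso_of_isIso_unit f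

/-- Proper morphisms which are isomorphisms over dense opens of curves are finite. -/
theorem isFinite_of_birational (hdim : topologicalKrullDim Y ≤ 1) (f : X ⟶ Y) [IsProper f]
    (hf : f ≫ (Y ↘ Spec (CommRingCat.of k)) = X ↘ Spec (CommRingCat.of k)) (U : Y.Opens)
    (hd : Dense (U : Set Y)) (hd' : Dense ((f ⁻¹ᵁ U : X.Opens) : Set X)) [IsIso (f ∣_ U)] : IsFinite f := by
  haveI := CurvLib.isNoetherian k (X := Y)
  haveI : IsProper (X ↘ Spec (CommRingCat.of k)) := by rw [← hf]; infer_instance
  haveI := CurvLib.isNoetherian k (X := X)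
  have hX : topologicalKrullDim X ≤ 1 := by
    refine FibDimLib.topologicalKrullDim_le_of_points fun x => ?_
    obtain ⟨η, hη, hηx⟩ := FinPicLib.exists_isGen_specializes x
    have hηU : η ∈ f ⁻¹ᵁ U := FinPicLib.mem_of_dense hη (f ⁻¹ᵁ U).isOpen hd'
    refine ((Topology.IsEmbedding.inclusion (closure_minimal (Set.singleton_subset_iff.mpr
      (specializes_iff_mem_closure.mp hηx)) isClosed_closure)).isInducing.topologicalKrullDim_le).trans ?_
    let g := (f ∣_ U) ≫ U.ι
    have e1 := FibDimLib.topologicalKrullDim_closure_of_isOpenEmbedding (X ↘ Spec (CommRingCat.of k))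
      (f ⁻¹ᵁ U).ι.isOpenEmbedding ⟨η, hηU⟩
    have e2 := FibDimLib.topologicalKrullDim_closure_of_isOpenEmbedding (Y ↘ Spec (CommRingCat.of k))
      g.isOpenEmbedding ⟨η, hηU⟩
    exact (e1.symm.trans e2).trans_le
      ((Topology.IsEmbedding.subtypeVal).isInducing.topologicalKrullDim_le.trans hdim)
  haveI : LocallyQuasiFinite f := LocallyQuasiFinite.of_finite_preimage_singleton f fun y => by
    by_cases hy : y ∈ U
    · refine Set.Subsingleton.finite fun a ha b hb => ?_
      have ha' : a ∈ f ⁻¹ᵁ U := by show f a ∈ U; rw [show f a = y from ha]; exact hy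
      have hb' : b ∈ f ⁻¹ᵁ U := by show f b ∈ U; rw [show f b = y from hb]; exact hy
      have := (f ∣_ U).isOpenEmbedding.injective (a₁ := ⟨a, ha'⟩) (a₂ := ⟨b, hb'⟩)
        (Subtype.ext ((morphismRestrict_base_coe f U ⟨a, ha'⟩).trans
          (((show f a = y from ha).trans (show f b = y from hb).symm).trans (morphismRestrict_base_coe f U ⟨b, hb'⟩).symm)))
      exact congrArg Subtype.val this
    · have hfin := FinPicLib.finite_of_closed hX (U.isOpen.preimage f.continuous).isClosed_compl
        fun z hz h => hz (FinPicLib.mem_of_dense h (f ⁻¹ᵁ U).isOpen hd')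
      exact hfin.subset fun z hz hzU => hy ((show f z = y from hz) ▸ hzU)
  exact IsFinite.of_isProper_of_locallyQuasiFinite f

end GenusPushLib

end
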